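import Cfsg.Agent.CNModules.Section
import Cfsg.Agent.CIT.SimpleFacts
import Mathlib.FieldTheory.Finite.Basic
import Mathlib.NumberTheory.LegendreSymbol.QuadraticChar.GaussSum

/-!
`PSL₂(q)` with two a square and `PSL₃(4)` have no non-zero modules in characteristic two on which
the elements of odd order act fixed point freely.
-/

set_option autoImplicit false

namespace CfsgLib.CNModules

open CfsgLib.CIT

section Generic

variable {X : Type*} [Group X] {M : Type*} [AddCommGroup M] (ρ : X →* AddMonoid.End M)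

theorem act_mul (g h : X) (v : M) : ρ (g * h) v = ρ g (ρ h v) := by rw [map_mul]; rfl

theorem act_one (v : M) : ρ 1 v = v := by rw [map_one]; rfl

variable {ρ} (hρ : FpfAdd ρ) (h2 : ∀ v : M, v + v = 0)
include hρ

theorem odd_order_three {x : X} (hx : x * x * x = 1) : Odd (orderOf x) :=
  (by decide : Odd 3).of_dvd_nat (orderOf_dvd_of_pow_eq_one (by rw [pow_succ, pow_succ, pow_one, hx]))

theorem sum_three {x : X} (hx : x * x * x = 1) (hx1 : x ≠ 1) (v : M) :
    v + ρ x v + ρ (x * x) v = 0 := by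
  refine hρ x (odd_order_three hρ hx) hx1 _ ?_
  simp only [map_add, ← act_mul]
  rw [← mul_assoc, hx, act_one]
  abel

include h2

/-- In a group `A₄`, two involutions have the same fixed points and the same displacements. -/
theorem a4_step {x a b : X} (hx : x * x * x = 1) (hx1 : x ≠ 1) (ha : a * a = 1) (hb : b * b = 1)
    (hab : x * a = b * x) (hbc : x * b = a * b * x) (hcomm : a * b = b * a) :
    (∀ v, ρ a v = v → ρ b v = v) ∧ ∀ v, ∃ v', ρ b v + v = ρ a v' + v' := by
  have hneg : ∀ u u' : M, u + u' = 0 → u = u' := fun u u' e =>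
    (eq_neg_of_add_eq_zero_left e).trans (neg_eq_of_add_eq_zero_left (h2 u'))
  have hca : x * (a * b) = a * x := by
    calc x * (a * b) = x * a * b := by group
      _ = b * (x * b) := by rw [hab]; group
      _ = (b * a) * b * x := by rw [hbc]; group
      _ = a * (b * b) * x := by rw [← hcomm]; group
      _ = a * x := by rw [hb, mul_one]
  have key : ∀ v, v + ρ a v = ρ x (v + ρ b v) := by
    intro v
    obtain ⟨y, hy⟩ : ∃ y, y = x * a := ⟨_, rfl⟩
    have hyy : y * y = x * x * b := by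
      calc y * y = x * (a * x) * a := by rw [hy]; group
        _ = x * x * (a * b) * a := by rw [← hca]; group
        _ = x * x * ((b * a) * a) := by rw [hcomm]; group
        _ = x * x * b := by rw [mul_assoc b a a, ha, mul_one]
    have hy3 : y * y * y = 1 := by
      calc y * y * y = x * x * b * (b * x) := by rw [hyy, hy, hab]
        _ = x * x * (b * b) * x := by group
        _ = 1 := by rw [hb, mul_one, hx]
    have hy1 : y ≠ 1 := fun e => hx1 (by
      have e' : x = a := by
        calc x = x * a * a⁻¹ := by group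
          _ = a⁻¹ := by rw [show x * a = 1 from hy ▸ e, one_mul]
          _ = a := inv_eq_of_mul_eq_one_right ha
      calc x = x * (a * a) := by rw [ha, mul_one]
        _ = (x * a) * a := by group
        _ = x * x * x := by rw [e']
        _ = 1 := hx)
    have h1 := sum_three hρ hy3 hy1 v
    have h1' := sum_three hρ hx hx1 v
    rw [hyy, hy, act_mul, act_mul _ (x * x) b] at h1
    have e : ρ x (ρ a v + v) + ρ (x * x) (ρ b v + v) = 0 := by
      calc ρ x (ρ a v + v) + ρ (x * x) (ρ b v + v)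
          = (v + ρ x (ρ a v) + ρ (x * x) (ρ b v)) + (v + ρ x v + ρ (x * x) v) - (v + v) := by
            simp only [map_add]; abel
        _ = 0 := by rw [h1, h1', h2 v, add_zero, sub_zero]
    have e' := congrArg (ρ (x * x)) (hneg _ _ e)
    rw [← act_mul, hx, act_one, ← act_mul, show x * x * (x * x) = x * x * x * x by group, hx,
      one_mul, add_comm, add_comm (ρ b v)] at e'
    exact e'
  refine ⟨fun v hv => ?_, fun v => ?_⟩
  · have e := key v
    rw [hv, h2] at e
    have e' := congrArg (ρ (x * x)) e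
    rw [map_zero, ← act_mul, hx, act_one] at e'
    exact (hneg _ _ e'.symm).symm
  · refine ⟨ρ x v, ?_⟩
    rw [add_comm, add_comm (ρ a (ρ x v)), key (ρ x v), ← act_mul ρ b, ← hab, act_mul, ← map_add, key v,
      ← act_mul, ← act_mul, hx, act_one]

end Generic

section PSLTwo

open CfsgLib.SL2 CfsgLib.PSL2Two

variable {F : Type} [Field F] [Fintype F] {M : Type*} [AddCommGroup M]

local notation "PSL₂" => Matrix.ProjectiveSpecialLinearGroup (Fin 2) F
local notation "π" => QuotientGroup.mk' (Subgroup.center (Matrix.SpecialLinearGroup (Fin 2) F))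

theorem mk_eq_of_center {g h : Matrix.SpecialLinearGroup (Fin 2) F} (e : g = h ∨ g = -h) :
    π g = π h := by
  rcases e with e | e
  · rw [e]
  · rw [e, ← neg_one_mul h, map_mul,
      show π (-1) = 1 from (QuotientGroup.eq_one_iff _).2 neg_one_mem_center, one_mul]

set_option maxHeartbeats 1000000 in
theorem eq_zero_psl_two {ρ : PSL₂ →* AddMonoid.End M} (hρ : FpfAdd ρ) (h2 : ∀ v : M, v + v = 0)
    (hodd : Fintype.card F % 2 = 1) (hsq : ∃ c : F, c * c = 2)
    (h3 : (3 : F) ≠ 0 ∨ ∃ i : F, i * i = -1) (m : M) : m = 0 := by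
  have htwo : (2 : F) ≠ 0 := PSL2Two.two_ne_zero_of_odd hodd
  obtain ⟨c, hc⟩ := hsq
  have hc0 : c ≠ 0 := fun e => htwo (by rw [← hc, e, mul_zero])
  obtain ⟨p, hp⟩ := CharP.exists F
  haveI : NeZero p := ⟨CharP.char_ne_zero_of_finite F p⟩
  obtain ⟨a₀, b₀, hab⟩ := CharP.sq_add_sq F p (-1)
  push_cast at hab
  obtain ⟨a, b, hab⟩ : ∃ a b : F, a ^ 2 + b ^ 2 = -1 := ⟨_, _, hab⟩
  -- the quaternion group, in a group `SL₂(3)`
  obtain ⟨I, hIm⟩ : ∃ g : Matrix.SpecialLinearGroup (Fin 2) F,
      (g : Matrix (Fin 2) (Fin 2) F) = !![0, -1; 1, 0] := ⟨⟨!![0, -1; 1, 0], by simp [Matrix.det_fin_two]⟩, rfl⟩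
  obtain ⟨J, hJm⟩ : ∃ g : Matrix.SpecialLinearGroup (Fin 2) F,
      (g : Matrix (Fin 2) (Fin 2) F) = !![a, b; b, -a] := ⟨⟨!![a, b; b, -a], by rw [Matrix.det_fin_two_of]; linear_combination (-1 : F) * hab⟩, rfl⟩
  obtain ⟨X, hXm⟩ : ∃ g : Matrix.SpecialLinearGroup (Fin 2) F,
      (g : Matrix (Fin 2) (Fin 2) F) = !![(-1 - a + b) / 2, (1 - b - a) / 2; (-1 - b - a) / 2, (-1 + a - b) / 2] := ⟨⟨!![(-1 - a + b) / 2, (1 - b - a) / 2; (-1 - b - a) / 2, (-1 + a - b) / 2], by
        rw [Matrix.det_fin_two_of]; field_simp; linear_combination (-2 : F) * hab⟩, rfl⟩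
  obtain ⟨S, hSm⟩ : ∃ g : Matrix.SpecialLinearGroup (Fin 2) F,
      (g : Matrix (Fin 2) (Fin 2) F) = !![1 / c, -(1 / c); 1 / c, 1 / c] := ⟨⟨!![1 / c, -(1 / c); 1 / c, 1 / c], by
        rw [Matrix.det_fin_two_of]; field_simp; linear_combination -hc⟩, rfl⟩
  have hII : I * I = -1 := by
    ext i j; fin_cases i <;> fin_cases j <;> simp [hIm, Matrix.mul_apply, Fin.sum_univ_two]
  have hJJ : J * J = -1 := by
    ext i j
    fin_cases i <;> fin_cases j <;> simp [hJm, Matrix.mul_apply, Fin.sum_univ_two] <;> grind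
  have hIJ : I * J = -(J * I) := by
    ext i j
    fin_cases i <;> fin_cases j <;> simp [hIm, hJm, Matrix.mul_apply, Fin.sum_univ_two]
  have hX : X * X * X = 1 := by
    ext i j
    fin_cases i <;> fin_cases j <;> simp [hXm, Matrix.mul_apply, Fin.sum_univ_two] <;>
      field_simp <;> grind
  have hXI : X * I = J * X ∨ X * I = -(J * X) := by
    left
    ext i j
    fin_cases i <;> fin_cases j <;> simp [hXm, hIm, hJm, Matrix.mul_apply, Fin.sum_univ_two] <;>
      field_simp <;> grind
  have hXJ : X * J = I * J * X ∨ X * J = -(I * J * X) := by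
    left
    ext i j
    fin_cases i <;> fin_cases j <;> simp [hXm, hIm, hJm, Matrix.mul_apply, Fin.sum_univ_two] <;>
      field_simp <;> grind
  have hSS : S * S = I := by
    ext i j
    fin_cases i <;> fin_cases j <;> simp [hIm, hSm, Matrix.mul_apply, Fin.sum_univ_two] <;>
      field_simp <;> grind
  have hx1 : π X ≠ 1 := fun e => by
    rcases mem_center_iff'.1 ((QuotientGroup.eq_one_iff X).1 e) with e1 | e1
    · have h01 := congrArg (fun g : Matrix.SpecialLinearGroup (Fin 2) F => g 0 1) e1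
      have h10 := congrArg (fun g : Matrix.SpecialLinearGroup (Fin 2) F => g 1 0) e1
      simp [hXm, htwo] at h01 h10
      grind
    · have h01 := congrArg (fun g : Matrix.SpecialLinearGroup (Fin 2) F => g 0 1) e1
      have h10 := congrArg (fun g : Matrix.SpecialLinearGroup (Fin 2) F => g 1 0) e1
      simp [hXm, htwo] at h01 h10
      grind
  set z := π I with hzdef
  have hzz : z * z = 1 := by
    rw [hzdef, ← map_mul]; exact (QuotientGroup.eq_one_iff _).2 (hII ▸ neg_one_mem_center)
  -- any outer element of the centraliser of `z` is linked to `z`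
  have hb2 : π J * π J = 1 := by
    rw [← map_mul]; exact (QuotientGroup.eq_one_iff _).2 (hJJ ▸ neg_one_mem_center)
  have hcomm : z * π J = π J * z := by
    rw [hzdef, ← map_mul, ← map_mul]; exact mk_eq_of_center (Or.inr hIJ)
  have hxa : π X * z = π J * π X := by
    rw [hzdef, ← map_mul, ← map_mul]; exact mk_eq_of_center hXI
  have hxb : π X * π J = z * π J * π X := by
    rw [hzdef, ← map_mul, ← map_mul, ← map_mul]; exact mk_eq_of_center hXJ
  have hx3 : π X * π X * π X = 1 := by rw [← map_mul, ← map_mul, hX, map_one]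
  -- and so is its product with a square root of `z`
  let J' : Matrix.SpecialLinearGroup (Fin 2) F := S * J
  have hS' : π S * π S = z := by rw [← map_mul, hSS]
  obtain ⟨hK1, hI1⟩ := a4_step hρ h2 hx3 hx1 hzz hb2 hxa hxb hcomm
  -- the second group `A₄`
  let a' : F := (a - b) / c
  let b' : F := (b + a) / c
  have hab' : a' ^ 2 + b' ^ 2 = -1 := by
    simp only [a', b']; field_simp; grind
  obtain ⟨X', hX'm⟩ : ∃ g : Matrix.SpecialLinearGroup (Fin 2) F,
      (g : Matrix (Fin 2) (Fin 2) F) = !![(-1 - a' + b') / 2, (1 - b' - a') / 2; (-1 - b' - a') / 2, (-1 + a' - b') / 2] := ⟨⟨!![(-1 - a' + b') / 2, (1 - b' - a') / 2; (-1 - b' - a') / 2, (-1 + a' - b') / 2], by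
        rw [Matrix.det_fin_two_of]; field_simp; linear_combination (-2 : F) * hab'⟩, rfl⟩
  have hJ'm : (J' : Matrix (Fin 2) (Fin 2) F) = !![a', b'; b', -a'] := by
    simp only [J', Matrix.SpecialLinearGroup.coe_mul, hSm, hJm]
    ext i j
    fin_cases i <;> fin_cases j <;> simp [a', b', Matrix.mul_apply, Fin.sum_univ_two] <;>
      field_simp <;> ring
  have hJ'2 : J' * J' = -1 := by
    ext i j
    fin_cases i <;> fin_cases j <;> simp [hJ'm, Matrix.mul_apply, Fin.sum_univ_two] <;> grind
  have hIJ' : I * J' = -(J' * I) := by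
    ext i j
    fin_cases i <;> fin_cases j <;> simp [hIm, hJ'm, Matrix.mul_apply, Fin.sum_univ_two]
  have hX' : X' * X' * X' = 1 := by
    ext i j
    fin_cases i <;> fin_cases j <;> simp [hX'm, Matrix.mul_apply, Fin.sum_univ_two] <;>
      field_simp <;> grind
  have hXI' : X' * I = J' * X' := by
    ext i j
    fin_cases i <;> fin_cases j <;> simp [hX'm, hIm, hJ'm, Matrix.mul_apply, Fin.sum_univ_two] <;>
      field_simp <;> grind
  have hXJ' : X' * J' = I * J' * X' := by
    ext i j
    fin_cases i <;> fin_cases j <;> simp [hX'm, hIm, hJ'm, Matrix.mul_apply, Fin.sum_univ_two] <;>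
      field_simp <;> grind
  have hx1' : π X' ≠ 1 := fun e => by
    rcases mem_center_iff'.1 ((QuotientGroup.eq_one_iff X').1 e) with e1 | e1
    · have h01 := congrArg (fun g : Matrix.SpecialLinearGroup (Fin 2) F => g 0 1) e1
      have h10 := congrArg (fun g : Matrix.SpecialLinearGroup (Fin 2) F => g 1 0) e1
      simp [hX'm, htwo] at h01 h10
      grind
    · have h01 := congrArg (fun g : Matrix.SpecialLinearGroup (Fin 2) F => g 0 1) e1
      have h10 := congrArg (fun g : Matrix.SpecialLinearGroup (Fin 2) F => g 1 0) e1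
      simp [hX'm, htwo] at h01 h10
      grind
  obtain ⟨hK2, hI2⟩ := a4_step hρ h2 (x := π X') (by rw [← map_mul, ← map_mul, hX', map_one]) hx1' hzz
    (b := π J') (by rw [← map_mul]; exact (QuotientGroup.eq_one_iff _).2 (hJ'2 ▸ neg_one_mem_center))
    (by rw [hzdef, ← map_mul, hXI', map_mul])
    (by rw [hzdef, ← map_mul, hXJ', map_mul, map_mul])
    (by rw [hzdef, ← map_mul, ← map_mul]; exact mk_eq_of_center (Or.inr hIJ'))
  -- the square root acts as a transvection
  have hr : ∀ v, ρ (π S) v = ρ (π J') (ρ (π J) v) := fun v => by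
    rw [← act_mul]; congr 1
    rw [show π J' = π S * π J from map_mul _ _ _, mul_assoc, hb2, mul_one]
  have hrK : ∀ v, ρ z v = v → ρ (π S) v = v := fun v hv => by rw [hr, hK1 v hv, hK2 v hv]
  have hdisp : ∀ v, ρ z (ρ (π S) v + v) = ρ (π S) v + v := by
    intro v
    obtain ⟨v1, e1⟩ := hI1 v
    obtain ⟨v2, e2⟩ := hI2 (ρ (π J) v)
    have e : ρ (π S) v + v = ρ z (v1 + v2) + (v1 + v2) := by
      calc ρ (π S) v + v = (ρ (π J') (ρ (π J) v) + ρ (π J) v) + (ρ (π J) v + v)
            - (ρ (π J) v + ρ (π J) v) := by rw [hr]; abel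
        _ = ρ z (v1 + v2) + (v1 + v2) := by rw [e1, e2, h2, sub_zero, map_add]; abel
    rw [e, map_add, ← act_mul, hzz, act_one, add_comm]
  have hztriv : ∀ v, ρ z v = v := fun v => by
    have e := hrK _ (hdisp v)
    rw [map_add, ← act_mul, hS', add_comm (ρ (π S) v) v] at e
    exact add_right_cancel e
  -- so all involutions act trivially
  have hinv : ∀ (t : PSL₂), orderOf t = 2 → ∀ v, ρ t v = v := by
    haveI : Fact (Nat.Prime 2) := ⟨Nat.prime_two⟩
    intro t ht v
    obtain ⟨g, hg⟩ := isConj_iff.1 ((oneClass_psl_two hodd).2 z t (orderOf_eq_prime (by rw [sq, hzz])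
      (fun e => by
        rcases mem_center_iff'.1 ((QuotientGroup.eq_one_iff I).1 e) with e1 | e1 <;>
        · have := congrArg (fun g : Matrix.SpecialLinearGroup (Fin 2) F => g 1 0) e1
          simp [hIm] at this)) ht)
    rw [← hg, act_mul, act_mul, hztriv, ← act_mul, mul_inv_cancel, act_one]
  -- an element of odd order inverted by an involution
  obtain ⟨g, t, hg3, hg1, ht, ht1, htg⟩ : ∃ g t : PSL₂, Odd (orderOf g) ∧ g ≠ 1 ∧ t * t = 1 ∧ t ≠ 1 ∧
      t * g * t⁻¹ = g⁻¹ := by
    by_cases hthree : (3 : F) = 0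
    · obtain ⟨i, hi⟩ := h3.resolve_left (not_not.2 hthree)
      have hi0 : i ≠ 0 := fun e => by rw [e, mul_zero] at hi; exact one_ne_zero (neg_eq_zero.1 hi.symm)
      refine ⟨π (u 1), π (d (Units.mk0 i hi0)), ?_, ?_, ?_, ?_, ?_⟩
      · refine (by decide : Odd 3).of_dvd_nat (orderOf_dvd_of_pow_eq_one ?_)
        rw [← map_pow, u_pow, show ((3 : ℕ) : F) = 0 by exact_mod_cast hthree, zero_mul, u_zero, map_one]
      · intro e
        rcases mem_center_iff'.1 ((QuotientGroup.eq_one_iff _).1 e) with e1 | e1 <;>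
        · have := congrArg (fun g : Matrix.SpecialLinearGroup (Fin 2) F => g 0 1) e1
          simp at this
      · rw [← map_mul, ← map_mul d]
        refine (QuotientGroup.eq_one_iff _).2 (mem_center_iff'.2 (Or.inr ?_))
        ext r s
        fin_cases r <;> fin_cases s <;> simp [hi, ← mul_inv]
      · intro e
        rcases mem_center_iff'.1 ((QuotientGroup.eq_one_iff _).1 e) with e1 | e1 <;>
        · have := congrArg (fun g : Matrix.SpecialLinearGroup (Fin 2) F => g 0 0) e1
          simp at this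
          rw [this] at hi
          exact htwo (by linear_combination hi)
      · simp only [← map_inv, ← map_mul, ← u_neg]
        congr 1
        ext r s
        fin_cases r <;> fin_cases s <;> simp [Matrix.mul_apply, Fin.sum_univ_two, hi0]
        field_simp; linear_combination hi
    · obtain ⟨g, t, hg, hgc, ht, ht2, htc⟩ := CIT.exists_three_inverted hthree
      refine ⟨π g, π t, ?_, fun e => hgc ((QuotientGroup.eq_one_iff g).1 e), ?_, ?_, ?_⟩
      · exact (by decide : Odd 3).of_dvd_nat (hg ▸ orderOf_map_dvd _ g)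
      · rw [← map_mul, ht2]; exact (QuotientGroup.eq_one_iff _).2 neg_one_mem_center
      · exact fun e => htc (Subgroup.center_le_centralizer _ ((QuotientGroup.eq_one_iff t).1 e))
      · rw [← map_mul, ← map_inv, ← map_mul, ht, map_inv]
  haveI : Fact (Nat.Prime 2) := ⟨Nat.prime_two⟩
  have ht' := hinv t (orderOf_eq_prime (by rw [sq, ht]) ht1)
  have hfix : ∀ v, ρ g (ρ g v) = v := fun v => by
    have e : ρ g⁻¹ v = ρ g v := by
      rw [← htg, act_mul, act_mul, ht',
        show ρ t⁻¹ v = v by rw [inv_eq_of_mul_eq_one_right ht]; exact ht' v]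
    rw [← e, ← act_mul, mul_inv_cancel, act_one]
  refine hρ g hg3 hg1 m ?_
  obtain ⟨k, hk⟩ := hg3
  have hpow : ∀ j, ρ (g ^ (2 * j)) m = m := by
    intro j
    induction j with
    | zero => rw [mul_zero, pow_zero, act_one]
    | succ j ih => rw [show 2 * (j + 1) = 2 * j + 1 + 1 by ring, pow_succ', pow_succ', act_mul, act_mul, ih, hfix]
  have := pow_orderOf_eq_one g
  rw [hk, pow_succ'] at this
  have e := congrArg (fun x => ρ x m) this
  simp only [act_mul, act_one, hpow] at e
  exact e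

/-- The fields occurring in the classification. -/
theorem eq_zero_psl_two_fermat {ρ : PSL₂ →* AddMonoid.End M} (hρ : FpfAdd ρ) (h2 : ∀ v : M, v + v = 0)
    (h7 : 7 ≤ Fintype.card F)
    (hq : ((Fintype.card F).Prime ∧ ∃ k : ℕ, Fintype.card F = 2 ^ k + 1 ∨ Fintype.card F + 1 = 2 ^ k) ∨
      Fintype.card F = 9) (m : M) : m = 0 := by
  have hodd : Fintype.card F % 2 = 1 := by
    rcases hq with ⟨hp, -⟩ | h9
    · exact (hp.eq_two_or_odd).resolve_left (by omega)
    · omega
  have key : ∀ k, Fintype.card F = 2 ^ k + 1 ∨ Fintype.card F + 1 = 2 ^ k → 8 ∣ 2 ^ k := fun k hk => by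
    have : 3 ≤ k := by
      by_contra hlt
      interval_cases k <;> omega
    exact pow_dvd_pow 2 this
  have hsq : IsSquare (2 : F) := FiniteField.isSquare_two_iff.2 (by
    rcases hq with ⟨-, k, hk⟩ | h9
    · have := key k hk
      omega
    · omega)
  obtain ⟨c, hc⟩ := hsq
  refine eq_zero_psl_two hρ h2 hodd ⟨c, hc.symm⟩ ?_ m
  rcases hq with ⟨hp, -⟩ | h9
  · refine Or.inl fun e => ?_
    obtain ⟨p, hpc⟩ := CharP.exists F
    obtain ⟨f, hp', hpf⟩ := FiniteField.card F p
    have hd : p ∣ 3 := (CharP.cast_eq_zero_iff F p 3).1 (by exact_mod_cast e)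
    have hpq : p = Fintype.card F :=
      (Nat.prime_dvd_prime_iff_eq hp' hp).1 (hpf ▸ dvd_pow_self p f.ne_zero)
    have := (Nat.prime_dvd_prime_iff_eq hp' Nat.prime_three).1 hd
    omega
  · refine Or.inr ?_
    obtain ⟨i, hi⟩ := FiniteField.isSquare_neg_one_iff.2 (show Fintype.card F % 4 ≠ 3 by omega)
    exact ⟨i, hi.symm⟩

end PSLTwo

section PSLThree

variable {F : Type} [Field F] [Fintype F] {M : Type*} [AddCommGroup M]

local notation "PSL₃" => Matrix.ProjectiveSpecialLinearGroup (Fin 3) F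
local notation "π" => QuotientGroup.mk' (Subgroup.center (Matrix.SpecialLinearGroup (Fin 3) F))

theorem eq_zero_of_nine {X : Type*} [Group X] {ρ : X →* AddMonoid.End M} (hρ : FpfAdd ρ)
    (h2 : ∀ v : M, v + v = 0) {a b : X} (ha : a * a * a = 1) (hb : b * b * b = 1) (hab : a * b = b * a)
    (h : ∀ i j : Fin 3, a ^ i.val * b ^ j.val = 1 → i = 0 ∧ j = 0) (v : M) : v = 0 := by
  have ha1 : a ≠ 1 := fun e => absurd (h 1 0 (by simp [e])).1 (by decide)
  have hb1 : b ≠ 1 := fun e => absurd (h 0 1 (by simp [e])).2 (by decide)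
  have hc : a * b * (a * b) * (a * b) = 1 := by
    rw [← pow_three', (Commute.mul_pow hab 3), pow_three', pow_three', ha, hb, one_mul]
  have hd : a * a * b * (a * a * b) * (a * a * b) = 1 := by
    have hab' : Commute (a * a) b := (Commute.mul_left hab hab)
    rw [← pow_three', hab'.mul_pow 3, pow_three', pow_three', hb, mul_one]
    calc a * a * (a * a) * (a * a) = a * a * a * (a * a * a) := by group
      _ = 1 := by rw [ha, one_mul]
  have hc1 : a * b ≠ 1 := fun e => absurd (h 1 1 (by simpa using e)).1 (by decide)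
  have hd1 : a * a * b ≠ 1 := fun e => absurd (h 2 1 (by simpa [pow_two] using e)).1 (by decide)
  have e1 := sum_three hρ ha ha1 v
  have e2 := sum_three hρ hb hb1 v
  have e3 := sum_three hρ hc hc1 v
  have e4 := sum_three hρ hd hd1 v
  have hswap : ∀ g : X, Commute a g → ρ a (ρ g v) = ρ g (ρ a v) := fun g hg => by
    rw [← act_mul, ← act_mul, hg.eq]
  -- the sum over the whole group
  have e0 : v + ρ a v + ρ (a * a) v + (ρ b v + ρ b (ρ a v) + ρ b (ρ (a * a) v)) +
      (ρ (b * b) v + ρ (b * b) (ρ a v) + ρ (b * b) (ρ (a * a) v)) = 0 := by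
    rw [← map_add, ← map_add, ← map_add, ← map_add, e1, map_zero, map_zero, add_zero, add_zero]
  have q1 : ρ (a * b) v = ρ b (ρ a v) := by rw [hab, act_mul]
  have q2 : ρ (a * b * (a * b)) v = ρ (b * b) (ρ (a * a) v) := by
    rw [← act_mul]; congr 2
    calc a * b * (a * b) = a * b * (b * a) := by rw [← hab]
      _ = a * (b * b) * a := by group
      _ = b * b * (a * a) := by rw [(Commute.mul_right hab hab : Commute a (b * b)).eq]; group
  have q3 : ρ (a * a * b) v = ρ b (ρ (a * a) v) := by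
    rw [(Commute.mul_left hab hab : Commute (a * a) b).eq, act_mul]
  have q4 : ρ (a * a * b * (a * a * b)) v = ρ (b * b) (ρ a v) := by
    rw [← act_mul]; congr 2
    have hab' : Commute (a * a) b := Commute.mul_left hab hab
    calc a * a * b * (a * a * b) = a * a * (b * (a * a)) * b := by group
      _ = a * a * (a * a * b) * b := by rw [hab'.eq]
      _ = a * a * a * a * (b * b) := by group
      _ = a * (b * b) := by rw [ha, one_mul]
      _ = b * b * a := (Commute.mul_right hab hab : Commute a (b * b)).eq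
  rw [q1, q2] at e3
  rw [q3, q4] at e4
  have e5 := congrArg₂ (· + ·) (congrArg₂ (· + ·) e1 e2) (congrArg₂ (· + ·) e3 e4)
  simp only [add_zero] at e5
  calc v = ((v + ρ a v + ρ (a * a) v + (v + ρ b v + ρ (b * b) v) +
        (v + ρ b (ρ a v) + ρ (b * b) (ρ (a * a) v) + (v + ρ b (ρ (a * a) v) + ρ (b * b) (ρ a v))))
      - (v + ρ a v + ρ (a * a) v + (ρ b v + ρ b (ρ a v) + ρ b (ρ (a * a) v)) +
      (ρ (b * b) v + ρ (b * b) (ρ a v) + ρ (b * b) (ρ (a * a) v)))) - (v + v) := by abel
    _ = 0 := by rw [e5, e0, h2 v, sub_zero, sub_zero]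

theorem eq_zero_psl_three_four {ρ : PSL₃ →* AddMonoid.End M} (hρ : FpfAdd ρ) (h2 : ∀ v : M, v + v = 0)
    (hF : Fintype.card F = 4) (v : M) : v = 0 := by
  classical
  haveI : Fact (Nat.Prime 3) := ⟨Nat.prime_three⟩
  obtain ⟨w, hw⟩ := exists_prime_orderOf_dvd_card' (G := Fˣ) 3
    (by rw [Nat.card_units, Nat.card_eq_fintype_card, hF])
  have hw3 : (w : F) ^ 3 = 1 := by
    rw [← Units.val_pow_eq_pow_val, ← hw, pow_orderOf_eq_one, Units.val_one]
  have hw1 : (w : F) ≠ 1 := fun e => by
    rw [Units.val_eq_one] at e; rw [e, orderOf_one] at hw; norm_num at hw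
  have hw0 : (w : F) ≠ 0 := w.ne_zero
  obtain ⟨D, hDm⟩ : ∃ g : Matrix.SpecialLinearGroup (Fin 3) F,
      (g : Matrix (Fin 3) (Fin 3) F) = !![1, 0, 0; 0, (w : F), 0; 0, 0, (w : F) ^ 2] := ⟨⟨!![1, 0, 0; 0, (w : F), 0; 0, 0, (w : F) ^ 2], by simp [Matrix.det_fin_three, ← pow_succ', hw3]⟩, rfl⟩
  obtain ⟨P, hPm⟩ : ∃ g : Matrix.SpecialLinearGroup (Fin 3) F,
      (g : Matrix (Fin 3) (Fin 3) F) = !![0, 1, 0; 0, 0, 1; 1, 0, 0] := ⟨⟨!![0, 1, 0; 0, 0, 1; 1, 0, 0], by simp [Matrix.det_fin_three]⟩, rfl⟩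
  obtain ⟨C, hCm⟩ : ∃ g : Matrix.SpecialLinearGroup (Fin 3) F,
      (g : Matrix (Fin 3) (Fin 3) F) = !![(w : F), 0, 0; 0, (w : F), 0; 0, 0, (w : F)] := ⟨⟨!![(w : F), 0, 0; 0, (w : F), 0; 0, 0, (w : F)], by simp [Matrix.det_fin_three, ← pow_two, ← pow_succ, hw3]⟩, rfl⟩
  have hC : C ∈ Subgroup.center (Matrix.SpecialLinearGroup (Fin 3) F) := by
    rw [Subgroup.mem_center_iff]
    intro g
    ext i j
    fin_cases i <;> fin_cases j <;> simp [hCm, Matrix.mul_apply, Fin.sum_univ_three, mul_comm]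
  have hD : D * D * D = 1 := by
    ext i j
    fin_cases i <;> fin_cases j <;> simp [hDm, Matrix.mul_apply, Fin.sum_univ_three] <;> grind
  have hP : P * P * P = 1 := by
    ext i j
    fin_cases i <;> fin_cases j <;> simp [hPm, Matrix.mul_apply, Fin.sum_univ_three]
  have hPD : P * D = C * (D * P) := by
    ext i j
    fin_cases i <;> fin_cases j <;> simp [hCm, hDm, hPm, Matrix.mul_apply, Fin.sum_univ_three] <;> grind
  have hdiag : ∀ {g : Matrix.SpecialLinearGroup (Fin 3) F}, g ∈ Subgroup.center _ →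
      (∀ i j : Fin 3, i ≠ j → g.1 i j = 0) ∧ ∀ i j : Fin 3, g.1 i i = g.1 j j := by
    intro g hg
    obtain ⟨r, -, hr⟩ := Matrix.SpecialLinearGroup.mem_center_iff.1 hg
    rw [← hr]
    exact ⟨fun i j hij => by simp [hij], fun i j => by simp⟩
  refine eq_zero_of_nine hρ h2 (a := π D) (b := π P) (by rw [← map_mul, ← map_mul, hD, map_one])
    (by rw [← map_mul, ← map_mul, hP, map_one]) ?_ ?_ v
  · rw [← map_mul, ← map_mul, hPD, map_mul π C, show π C = 1 from (QuotientGroup.eq_one_iff _).2 hC,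
      one_mul]
  · intro i j e
    rw [← map_pow, ← map_pow, ← map_mul] at e
    obtain ⟨hoff, hon⟩ := hdiag ((QuotientGroup.eq_one_iff _).1 e)
    have h01 := hoff 0 1 (by decide)
    have h02 := hoff 0 2 (by decide)
    have h00 := hon 0 1
    fin_cases i <;> fin_cases j <;>
      simp [hDm, hPm, pow_two, Matrix.mul_apply, Fin.sum_univ_three] at h01 h02 h00 ⊢ <;> grind

end PSLThree

end CfsgLib.CNModules
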