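import Cfsg.Agent.CN.Quotient
import Cfsg.Agent.CN.Solvable
import Cfsg.Agent.CIT.CN
import Cfsg.Agent.Frobenius.Complement
import Cfsg.Agent.ZStar.Theorem
import Cfsg.Agent.S0205

/-!
Non-solvable CN-groups: modulo `O₂` there is no solvable normal subgroup, and then the involution
centralisers are 2-groups.
-/

set_option autoImplicit false

namespace CfsgLib.CNModules

open CfsgLib.CN CfsgLib.CITThreePrime
open scoped Pointwise

universe u

variable {G : Type u} [Group G] [Finite G]

theorem isSolvable_top {X : Type*} [Group X] (h : Group.IsSolvable (⊤ : Subgroup X)) : Group.IsSolvable X :=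
  haveI := h
  Group.isSolvable_of_surjective (f := (⊤ : Subgroup X).subtype) fun g => ⟨⟨g, Subgroup.mem_top g⟩, rfl⟩

theorem isSolvable_of_quotient (N : Subgroup G) [N.Normal] (hN : Group.IsSolvable N)
    (hQ : Group.IsSolvable (G ⧸ N)) : Group.IsSolvable G := by
  haveI := hN
  haveI := hQ
  exact Group.isSolvable_of_ker_le_range N.subtype (QuotientGroup.mk' N)
    (by rw [QuotientGroup.ker_mk', Subgroup.range_subtype])

theorem isSolvable_of_card_two_pow {X : Type*} [Group X] [Finite X] (h : IsPGroup 2 X) :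
    Group.IsSolvable X := by
  haveI : Fact (Nat.Prime 2) := ⟨Nat.prime_two⟩
  haveI := h.isNilpotent
  infer_instance

theorem two_dvd_card (hns : ¬ Group.IsSolvable G) : 2 ∣ Nat.card G := by
  by_contra h
  exact hns (isSolvable_top (Cfsg.Agent.S0205.result
    (by rw [Subgroup.card_top, Nat.odd_iff]; omega)))

theorem centralizer_le_singleton {N : Subgroup G} {x : G} (hx : x ∈ N) :
    Subgroup.centralizer (N : Set G) ≤ Subgroup.centralizer ({x} : Set G) :=
  Subgroup.centralizer_le (Set.singleton_subset_iff.2 hx)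

theorem mem_centralizer_one {x y : G} (h : x * y = y * x) : y ∈ Subgroup.centralizer ({x} : Set G) :=
  Subgroup.mem_centralizer_singleton_iff.2 h.symm

theorem odd_coprime_two {x : G} (h : Odd (orderOf x)) : (orderOf x).Coprime 2 := by
  rw [Nat.coprime_two_right]; exact h

theorem orderOf_two_isPGroup {x : G} (h : orderOf x = 2) : IsPGroup 2 (Subgroup.zpowers x) :=
  zpowers_isPGroup_of_orderOf_eq h

/-- A group with a central involution is nilpotent, if it is a CN-group. -/
theorem isSolvable_of_central (hCN : Cfsg.IsCNGroup G) {z : G} (hz : z ≠ 1) (hc : ∀ g, g * z = z * g) :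
    Group.IsSolvable G := by
  haveI := hCN z hz
  refine isSolvable_top ?_
  rw [← show Subgroup.centralizer ({z} : Set G) = ⊤ from
    eq_top_iff.2 fun g _ => Subgroup.mem_centralizer_singleton_iff.2 (hc g)]
  infer_instance

/-- With trivial `O₂` a non-solvable CN-group has no odd-prime normal subgroups. -/
theorem no_odd_normal (hCN : Cfsg.IsCNGroup G) (hns : ¬ Group.IsSolvable G)
    (hO : Cfsg.pCore 2 G = ⊥) {p : ℕ} [Fact p.Prime] (hp : p ≠ 2) {E : Subgroup G} [E.Normal]
    (hEp : IsPGroup p E) (hE1 : E ≠ ⊥) : False := by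
  classical
  haveI : Fact (Nat.Prime 2) := ⟨Nat.prime_two⟩
  obtain ⟨S⟩ : Nonempty (Sylow 2 G) := inferInstance
  have hS2 : 2 ∣ Nat.card (S : Subgroup G) := S.dvd_card_of_dvd_card (two_dvd_card hns)
  haveI hSnt : Nontrivial (S : Subgroup G) := Finite.one_lt_card_iff_nontrivial.1
    (lt_of_lt_of_le one_lt_two (Nat.le_of_dvd Nat.card_pos hS2))
  haveI := S.2.center_nontrivial
  obtain ⟨k, hk0, hk⟩ := (S.2.to_subgroup (Subgroup.center _)).nontrivial_iff_card.1 inferInstance
  obtain ⟨⟨⟨z, hzS⟩, hzc⟩, hz⟩ := exists_prime_orderOf_dvd_card' (G := Subgroup.center (S : Subgroup G)) 2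
    (by rw [hk]; exact dvd_pow_self 2 hk0.ne')
  rw [Subgroup.orderOf_mk, Subgroup.orderOf_mk] at hz
  have hz1 : z ≠ 1 := fun e => by rw [e, orderOf_one] at hz; omega
  have hzs : ∀ s ∈ S, s * z = z * s := fun s hs =>
    congrArg Subtype.val (Subgroup.mem_center_iff.1 hzc ⟨s, hs⟩)
  by_cases hone : TwoGroup.AtMostOneInvolution (S : Subgroup G)
  · have hzz := ZStar.inZStar_of_atMostOneInvolution S hone hz
    set O := Cfsg.pPrimeCore 2 G with hO'
    haveI : O.Normal := Subgroup.sSup_normal _ fun N hN => hN.1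
    have hOodd : Odd (Nat.card O) := by
      rw [Nat.odd_iff]
      have := Constrained.pPrimeCore_not_dvd (G := G) (p := 2)
      rw [← hO'] at this
      omega
    have hOsol : Group.IsSolvable O := Cfsg.Agent.S0205.result hOodd
    refine hns (isSolvable_of_quotient O hOsol ?_)
    have hzO : QuotientGroup.mk' O z ≠ 1 := fun e => by
      have := Subgroup.orderOf_dvd_natCard O ((QuotientGroup.eq_one_iff z).1 e)
      rw [hz] at this
      exact Nat.not_even_iff_odd.2 hOodd (even_iff_two_dvd.2 this)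
    refine isSolvable_of_central (isCNGroup_quotient hCN O hOsol) hzO fun g => ?_
    obtain ⟨g, rfl⟩ := QuotientGroup.mk'_surjective O g
    have h1 := (QuotientGroup.eq_one_iff _).2 (hzz g)
    rw [← QuotientGroup.mk'_apply, map_mul, map_mul, map_mul, map_inv, map_inv] at h1
    calc QuotientGroup.mk' O g * QuotientGroup.mk' O z
        = (QuotientGroup.mk' O g * QuotientGroup.mk' O z * (QuotientGroup.mk' O g)⁻¹ *
            (QuotientGroup.mk' O z)⁻¹) * (QuotientGroup.mk' O z * QuotientGroup.mk' O g) := by group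
      _ = _ := by rw [h1, one_mul]
  -- otherwise there is a further involution commuting with `z`
  obtain ⟨b, hbS, hb, hbz⟩ : ∃ b ∈ S, orderOf b = 2 ∧ b ≠ z := by
    by_contra hcon
    push Not at hcon
    exact hone fun x y hx hy => Subtype.ext
      ((hcon x x.2 (by rwa [Subgroup.orderOf_coe])).trans (hcon y y.2 (by rwa [Subgroup.orderOf_coe])).symm)
  -- a central element of `E`
  haveI : Nontrivial E := (Subgroup.nontrivial_iff_ne_bot E).2 hE1
  haveI := hEp.center_nontrivial
  obtain ⟨⟨⟨e, heE⟩, hec⟩, he1⟩ := exists_ne (1 : Subgroup.center E)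
  have he1' : e ≠ 1 := fun h => he1 (Subtype.ext (Subtype.ext h))
  have hEodd : ∀ x ∈ E, Odd (orderOf x) := fun x hx => by
    obtain ⟨i, hi⟩ := orderOf_pow_of_isPGroup_zpowers (zpowers_isPGroup_of_mem hEp hx)
    rw [hi]; exact ((Fact.out : p.Prime).odd_of_ne_two hp).pow
  set A := (Subgroup.center E).map E.subtype with hA
  haveI : A.Normal := inferInstance
  have hAE : A ≤ E := Subgroup.map_subtype_le _
  have heA : e ∈ A := ⟨⟨e, heE⟩, hec, rfl⟩
  have hAc : ∀ x ∈ A, ∀ y ∈ A, x * y = y * x := by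
    rintro _ ⟨x, hx, rfl⟩ _ ⟨y, -, rfl⟩
    exact (congrArg Subtype.val (Subgroup.mem_center_iff.1 hx y)).symm
  -- what commutes with an involution commuting with `z` commutes with `z`
  have hkey : ∀ w : G, orderOf w = 2 → w * z = z * w → ∀ x ∈ A, x * w = w * x → x * z = z * x := by
    intro w hw hwz x hx hxw
    exact commute_of_coprime_pGroup (hCN w fun e' => by rw [e', orderOf_one] at hw; omega)
      (mem_centralizer_one hxw.symm) (mem_centralizer_one hwz) (odd_coprime_two (hEodd x (hAE hx)))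
      (orderOf_two_isPGroup hz)
  have hbb : b * b = 1 := by rw [← sq, ← hb]; exact pow_orderOf_eq_one b
  have hzz : z * z = 1 := by rw [← sq, ← hz]; exact pow_orderOf_eq_one z
  have hzb : orderOf (z * b) = 2 := by
    refine orderOf_eq_prime ?_ fun e' => hbz ?_
    · rw [sq]
      calc z * b * (z * b) = z * (b * z) * b := by group
        _ = z * z * (b * b) := by rw [hzs b hbS]; group
        _ = 1 := by rw [hzz, hbb, one_mul]
    · calc b = z * z * b := by rw [hzz, one_mul]
        _ = z * (z * b) := by group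
        _ = z := by rw [e', mul_one]
  have hfix : ∀ x ∈ A, x * z = z * x := by
    intro x hx
    set c : G → G := fun g => g * x * g⁻¹
    have hc : ∀ g, c g ∈ A := fun g => (inferInstance : A.Normal).conj_mem x hx g
    have hprod : ∀ w : G, w * w = 1 → (x * c w) * w = w * (x * c w) := fun w hw => by
      calc x * (w * x * w⁻¹) * w = x * (w * x * w⁻¹) * w := rfl
        _ = (w * x * w⁻¹) * x * w := by rw [hAc x hx _ (hc w)]
        _ = w * (x * (w⁻¹ * x * w)) := by group
        _ = w * (x * (w * x * w⁻¹)) := by rw [inv_eq_of_mul_eq_one_right hw]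
    have h1 := hkey z hz rfl _ (mul_mem hx (hc z)) (hprod z hzz)
    have h2 := hkey b hb (hzs b hbS) _ (mul_mem hx (hc b)) (hprod b hbb)
    have h3 := hkey (z * b) hzb (by rw [mul_assoc, hzs b hbS]) _ (mul_mem hx (hc (z * b)))
      (hprod _ (by rw [← sq, ← hzb]; exact pow_orderOf_eq_one _))
    have h4 : c b * c (z * b) * z = z * (c b * c (z * b)) := by
      have := hprod z hzz
      have e1 : c (z * b) = z * c b * z⁻¹ := by simp only [c]; group
      rw [e1]
      calc c b * (z * c b * z⁻¹) * z = c b * z * c b := by group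
        _ = z * ((z⁻¹ * c b * z) * c b) := by group
        _ = z * ((z * c b * z⁻¹) * c b) := by rw [inv_eq_of_mul_eq_one_right hzz]
        _ = _ := by rw [hAc _ ((inferInstance : A.Normal).conj_mem _ (hc b) z) _ (hc b)]
    have hsq : (x * x) * z = z * (x * x) := by
      have e : x * x = (x * c b) * (x * c (z * b)) * (c b * c (z * b))⁻¹ := by
        rw [show x * c b * (x * c (z * b)) = x * (c b * x) * c (z * b) by group, hAc _ (hc b) _ hx]
        group
      have hC : ∀ y, y * z = z * y → y ∈ Subgroup.centralizer ({z} : Set G) :=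
        fun y hy => Subgroup.mem_centralizer_singleton_iff.2 hy
      rw [e]
      exact Subgroup.mem_centralizer_singleton_iff.1 (mul_mem (mul_mem (hC _ h2) (hC _ h3)) (inv_mem (hC _ h4)))
    obtain ⟨j, hj⟩ := hEodd x (hAE hx)
    have hpow : (x * x) ^ (j + 1) = x := by
      rw [← sq, ← pow_mul, show 2 * (j + 1) = orderOf x + 1 by omega, pow_succ, pow_orderOf_eq_one, one_mul]
    rw [← hpow]
    exact (show Commute (x * x) z from hsq).pow_left _
  have hcommS : ∀ s ∈ S, ∀ x ∈ A, s * x = x * s := fun s hs x hx =>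
    (commute_of_coprime_pGroup (hCN z hz1) (mem_centralizer_one (hfix x hx).symm)
      (mem_centralizer_one (hzs s hs).symm) (odd_coprime_two (hEodd x (hAE hx)))
      (zpowers_isPGroup_of_mem S.2 hs)).symm
  set C := Subgroup.centralizer (A : Set G) with hCdef
  haveI : C.Normal := inferInstance
  have hSC : (S : Subgroup G) ≤ C := fun s hs =>
    Subgroup.mem_centralizer_iff.2 fun x hx => (hcommS s hs x hx).symm
  have hCnil : Group.IsNilpotent C := centralizer_nilpotent hCN he1' (centralizer_le_singleton heA)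
  obtain ⟨P, hPC, hP, hmax, hnorm, -⟩ := exists_pPart hCnil 2
  have hSP : (S : Subgroup G) ≤ P := fun s hs => hmax s (hSC hs) (zpowers_isPGroup_of_mem S.2 hs)
  haveI : P.Normal := Subgroup.normalizer_eq_top_iff.1 (eq_top_iff.2 fun g _ => hnorm g
    (by rw [Subgroup.normalizer_eq_top_iff.2 (inferInstance : C.Normal)]; exact Subgroup.mem_top g))
  have h := Constrained.le_pCore (inferInstance : P.Normal) hP
  rw [hO, le_bot_iff] at h
  exact hz1 (Subgroup.mem_bot.1 (h ▸ hSP hzS))

/-- With trivial `O₂` a non-solvable CN-group has no solvable normal subgroups. -/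
theorem radical_trivial (hCN : Cfsg.IsCNGroup G) (hns : ¬ Group.IsSolvable G)
    (hO : Cfsg.pCore 2 G = ⊥) (N : Subgroup G) [N.Normal] (hN : Group.IsSolvable N) : N = ⊥ := by
  by_contra hne
  obtain ⟨p, E, hp, hEn, -, hE1, hEp⟩ := exists_normal_pGroup_le N hN hne
  haveI := hEn
  haveI := Fact.mk hp
  by_cases hp2 : p = 2
  · subst hp2
    exact hE1 (le_bot_iff.1 ((Constrained.le_pCore hEn hEp).trans hO.le))
  · exact no_odd_normal hCN hns hO hp2 hEp hE1

/-- A minimal normal subgroup of a CN-group without solvable normal subgroups is simple. -/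
theorem exists_simple_normal (hCN : Cfsg.IsCNGroup G) (hns : ¬ Group.IsSolvable G)
    (hrad : ∀ N : Subgroup G, N.Normal → Group.IsSolvable N → N = ⊥) :
    ∃ N : Subgroup G, N.Normal ∧ IsSimpleGroup N ∧ ¬ Group.IsSolvable N := by
  classical
  have hG1 : (⊤ : Subgroup G) ≠ ⊥ := fun e => hns (isSolvable_top (e ▸ inferInstance))
  obtain ⟨N, -, hNm⟩ := Finite.exists_le_minimal
    (p := fun A : Subgroup G => A.Normal ∧ A ≠ ⊥) ⟨inferInstance, hG1⟩
  obtain ⟨hNn, hN1⟩ := hNm.1
  haveI := hNn
  haveI : Nontrivial N := (Subgroup.nontrivial_iff_ne_bot N).2 hN1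
  have hNs : ¬ Group.IsSolvable N := fun h => hN1 (hrad N hNn h)
  have hsolv : ∀ K : Subgroup N, K.Normal → Group.IsSolvable K → K = ⊥ := by
    intro K hK hKs
    by_contra hne
    obtain ⟨p, E, hp, hEn, -, hE1, hEp⟩ := exists_normal_pGroup_le K hKs hne
    haveI := Fact.mk hp
    haveI : ((Cfsg.pCore p N).map N.subtype).Normal := inferInstance
    have h := hrad ((Cfsg.pCore p N).map N.subtype) inferInstance (by
      haveI := ((Constrained.isPGroup_pCore (G := N) (p := p)).map N.subtype).isNilpotent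
      infer_instance)
    rw [Subgroup.map_eq_bot_iff_of_injective _ N.subtype_injective] at h
    exact hE1 (le_bot_iff.1 ((Constrained.le_pCore hEn hEp).trans h.le))
  refine ⟨N, hNn, ⟨fun H hH => ?_⟩, hNs⟩
  by_contra hcon
  push Not at hcon
  obtain ⟨K, hKH, hKm⟩ := Finite.exists_le_minimal
    (p := fun A : Subgroup N => A.Normal ∧ A ≠ ⊥) ⟨hH, hcon.1⟩
  obtain ⟨hKn, hK1⟩ := hKm.1
  haveI := hKn
  -- all conjugates agree
  have hconj : ∀ g : G, K.map (MulAut.conjNormal g : MulAut N).toMonoidHom = K := by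
    intro g
    set e : N ≃* N := MulAut.conjNormal g
    set K' := K.map e.toMonoidHom
    haveI hK'n : K'.Normal := Subgroup.Normal.map hKn e.toMonoidHom e.surjective
    have hK'1 : K' ≠ ⊥ := fun h => hK1 ((Subgroup.map_eq_bot_iff_of_injective _ e.injective).1 h)
    by_contra hne
    have hinf : K ⊓ K' = ⊥ := by
      by_contra hne'
      have hKK : K ≤ K' := by
        have := hKm.2 ⟨Subgroup.normal_inf_normal K K', hne'⟩ inf_le_left
        exact this.trans inf_le_right
      exact hne (Subgroup.eq_of_le_of_card_ge hKK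
        (le_of_eq (Subgroup.card_map_of_injective (f := e.toMonoidHom) e.injective))).symm
    obtain ⟨⟨k, hk⟩, hk1⟩ := Subgroup.ne_bot_iff_exists_ne_one.1 hK'1
    have hnil : Group.IsNilpotent K := centralizer_nilpotent (isCNGroup_subgroup hCN N)
      (fun h => hk1 (Subtype.ext h)) (fun x hx => mem_centralizer_one
        (Subgroup.commute_of_normal_of_disjoint K K' hKn hK'n (disjoint_iff.2 hinf) x k hx hk).eq.symm)
    haveI := hnil
    exact hK1 (hsolv K hKn inferInstance)
  have hKG : (K.map N.subtype).Normal := ⟨by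
    rintro _ ⟨x, hx, rfl⟩ g
    exact ⟨(MulAut.conjNormal g : MulAut N) x, hconj g ▸ ⟨x, hx, rfl⟩, MulAut.conjNormal_apply g x⟩⟩
  have hK'1 : K.map N.subtype ≠ ⊥ := fun h =>
    hK1 ((Subgroup.map_eq_bot_iff_of_injective _ N.subtype_injective).1 h)
  have hle := hNm.2 ⟨hKG, hK'1⟩ (Subgroup.map_subtype_le K)
  refine hcon.2 (top_le_iff.1 fun x _ => ?_)
  obtain ⟨y, hy, hyx⟩ := hle x.2
  exact hKH (Subtype.ext hyx ▸ hy)

/-- The involution centralisers are 2-groups. -/
theorem invCentTwo_of_radical (hCN : Cfsg.IsCNGroup G) (hns : ¬ Group.IsSolvable G)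
    (hrad : ∀ N : Subgroup G, N.Normal → Group.IsSolvable N → N = ⊥) : InvCentTwo G := by
  classical
  haveI : Fact (Nat.Prime 2) := ⟨Nat.prime_two⟩
  obtain ⟨N, hNn, hNsimp, hNs⟩ := exists_simple_normal hCN hns hrad
  haveI := hNn
  haveI := hNsimp
  have hNI := CIT.invCentTwo_of_cn (isCNGroup_subgroup hCN N) hNs
  -- commuting with a non-trivial 2-element of `N`
  have hN2 : ∀ s : G, s ∈ N → s ≠ 1 → IsPGroup 2 (Subgroup.zpowers s) →
      ∀ x ∈ N, x * s = s * x → IsPGroup 2 (Subgroup.zpowers x) := by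
    intro s hs hs1 hsp x hx hxs
    obtain ⟨k, hk⟩ := orderOf_pow_of_isPGroup_zpowers hsp
    obtain ⟨j, hj⟩ := hNI.orderOf_of_commute (x := (⟨s, hs⟩ : N)) (y := ⟨x, hx⟩) (k := k)
      (by rw [Subgroup.orderOf_mk, hk]) (fun e => hs1 (congrArg Subtype.val e)) (Subtype.ext hxs.symm)
    rw [Subgroup.orderOf_mk] at hj
    exact IsPGroup.of_card (n := j) (by rw [Nat.card_zpowers, hj])
  -- odd elements do not commute with involutions of `N`
  have hinN : ∀ t : G, t ∈ N → orderOf t = 2 → ∀ y : G, (orderOf y).Prime → orderOf y ≠ 2 →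
      y * t ≠ t * y := by
    intro t ht hto y hyp hy2 hyt
    have hyo : (orderOf y).Coprime 2 := (Nat.coprime_primes hyp Nat.prime_two).2 hy2
    have ht1 : t ≠ 1 := fun e => by rw [e, orderOf_one] at hto; omega
    have hcy : ∀ s : G, s ∈ N → s * t = t * s → y * s = s * y := by
      intro s hs hst
      exact commute_of_coprime_pGroup (hCN t ht1) (mem_centralizer_one hyt.symm)
        (mem_centralizer_one hst.symm) hyo
        (hN2 t ht ht1 (orderOf_two_isPGroup hto) s hs hst)
    -- a Sylow subgroup of `N` containing `t`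
    obtain ⟨T, hT⟩ := (IsPGroup.of_card (n := 1) (by rw [Nat.card_zpowers, Subgroup.orderOf_mk, hto, pow_one]) :
      IsPGroup 2 (Subgroup.zpowers (⟨t, ht⟩ : N))).exists_le_sylow
    have htT : (⟨t, ht⟩ : N) ∈ (T : Subgroup N) := hT (Subgroup.mem_zpowers _)
    haveI : Nontrivial (T : Subgroup N) := ⟨⟨⟨_, htT⟩, 1, fun e => ht1
      (congrArg (fun w : (T : Subgroup N) => ((w : N) : G)) e)⟩⟩
    haveI := T.2.center_nontrivial
    obtain ⟨⟨⟨⟨z, hzN⟩, hzT⟩, hzc⟩, hz1⟩ := exists_ne (1 : Subgroup.center (T : Subgroup N))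
    have hz1' : z ≠ 1 := fun e => hz1 (Subtype.ext (Subtype.ext (Subtype.ext e)))
    have hTz : ∀ s ∈ (T : Subgroup N), (s : G) * z = z * s := fun s hs =>
      congrArg (fun w : (T : Subgroup N) => ((w : N) : G)) (Subgroup.mem_center_iff.1 hzc ⟨s, hs⟩)
    have hTp : ∀ s ∈ (T : Subgroup N), IsPGroup 2 (Subgroup.zpowers (s : G)) := fun s hs => by
      have := (zpowers_isPGroup_of_mem T.2 hs).map N.subtype
      rwa [MonoidHom.map_zpowers] at this
    have hyz : y * z = z * y := hcy z hzN (hTz ⟨t, ht⟩ htT).symm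
    have hyT : ∀ s ∈ (T : Subgroup N), y * (s : G) = s * y := fun s hs =>
      commute_of_coprime_pGroup (hCN z hz1') (mem_centralizer_one hyz.symm)
        (mem_centralizer_one (hTz s hs).symm) hyo (hTp s hs)
    -- the centraliser of `y` in `N`
    set L : Subgroup N := (Subgroup.centralizer ({y} : Set G)).subgroupOf N with hL
    have hmemL : ∀ s : N, s ∈ L ↔ y * (s : G) = s * y := fun s => by
      rw [hL, Subgroup.mem_subgroupOf, Subgroup.mem_centralizer_singleton_iff]; exact eq_comm
    have hy1 : y ≠ 1 := fun e => by rw [e, orderOf_one] at hyp; exact Nat.not_prime_one hyp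
    have hL2 : IsPGroup 2 L := by
      rw [IsPGroup.iff_orderOf]
      intro a
      rw [← Subgroup.orderOf_coe, ← Subgroup.orderOf_coe]
      obtain ⟨i, c, hc, hac⟩ := Nat.exists_eq_two_pow_mul_odd (orderOf_pos ((a : N) : G)).ne'
      set b := ((a : N) : G) ^ 2 ^ i with hb
      have hbo : orderOf b = c := by
        rw [hb, orderOf_pow_of_dvd (by positivity) (hac ▸ dvd_mul_right _ _), hac,
          Nat.mul_div_cancel_left _ (by positivity)]
      have hbt : b * t = t * b := commute_of_coprime_pGroup (hCN y hy1)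
        (pow_mem (mem_centralizer_one ((hmemL a).1 a.2)) _) (mem_centralizer_one hyt)
        (odd_coprime_two (by rw [hbo]; exact hc)) (orderOf_two_isPGroup hto)
      obtain ⟨j, hj⟩ := orderOf_pow_of_isPGroup_zpowers
        (hN2 t ht ht1 (orderOf_two_isPGroup hto) b (pow_mem (a : N).2 _) hbt)
      have hj0 : j = 0 := by
        by_contra hj0
        rw [hbo] at hj
        exact Nat.not_even_iff_odd.2 hc (even_iff_two_dvd.2 (hj ▸ dvd_pow_self 2 hj0))
      refine ⟨i, ?_⟩
      rw [hac, show c = 1 by rw [← hbo, hj, hj0, pow_zero], mul_one]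
    have hLT : L = (T : Subgroup N) := T.3 hL2 fun s hs => (hmemL s).2 (hyT s hs)
    have hcentT : ∀ s ∈ (T : Subgroup N), s ≠ 1 → ∀ x : N, x * s = s * x → x ∈ (T : Subgroup N) := by
      intro s hs hs1 x hxs
      have hs1' : (s : G) ≠ 1 := fun e => hs1 (Subtype.ext e)
      have hxs' : (x : G) * s = s * x := congrArg Subtype.val hxs
      have h2x := hN2 s s.2 hs1' (hTp s hs) x x.2 hxs'
      rw [← hLT, hmemL]
      exact commute_of_coprime_pGroup (hCN s hs1') (mem_centralizer_one (hyT s hs).symm)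
        (mem_centralizer_one hxs'.symm) hyo h2x
    -- the normaliser
    have hNT : ∀ n ∈ Subgroup.normalizer ((T : Subgroup N) : Set N), n ∈ (T : Subgroup N) := by
      intro n hn
      have key : ∀ m ∈ Subgroup.normalizer ((T : Subgroup N) : Set N), Odd (orderOf m) → m = 1 := by
        intro m hm hmo
        set c : G := (m : G) * y * (m : G)⁻¹ * y⁻¹ with hc
        have hcN : c ∈ N := by
          rw [hc, show (m : G) * y * (m : G)⁻¹ * y⁻¹ = (m : G) * (y * (m : G)⁻¹ * y⁻¹) by group]
          exact mul_mem m.2 (hNn.conj_mem _ (inv_mem m.2) y)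
        have hcs : ∀ s ∈ (T : Subgroup N), c * (s : G) = s * c := by
          intro s hs
          have hs' := (Subgroup.mem_normalizer_iff''.1 hm s).1 hs
          have h1 := hyT _ hs'
          simp only [Subgroup.coe_mul, Subgroup.coe_inv] at h1
          have hy' : y⁻¹ * (s : G) = s * y⁻¹ := ((show Commute y (s : G) from hyT s hs).inv_left).eq
          calc c * (s : G) = (m : G) * y * (m : G)⁻¹ * (y⁻¹ * s) := by rw [hc]; group
            _ = (m : G) * (y * ((m : G)⁻¹ * s * m)) * (m : G)⁻¹ * y⁻¹ := by rw [hy']; group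
            _ = (m : G) * (((m : G)⁻¹ * s * m) * y) * (m : G)⁻¹ * y⁻¹ := by rw [h1]
            _ = s * c := by rw [hc]; group
        have hcT : (⟨c, hcN⟩ : N) ∈ (T : Subgroup N) :=
          hcentT _ htT (fun e => ht1 (congrArg Subtype.val e)) _ (Subtype.ext (hcs ⟨t, ht⟩ htT))
        have hcy' : Commute c y := ((hyT _ hcT).symm : c * y = y * c)
        have hc1 : c = 1 := by
          have h1 : orderOf (c * y) = orderOf y := by
            rw [show c * y = MulAut.conj (m : G) y by rw [hc, MulAut.conj_apply]; group, MulEquiv.orderOf_eq]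
          have h2 : c ^ orderOf y = 1 := by
            have := pow_orderOf_eq_one (c * y)
            rw [h1, hcy'.mul_pow, pow_orderOf_eq_one, mul_one] at this
            exact this
          obtain ⟨k, hk⟩ := orderOf_pow_of_isPGroup_zpowers (hTp _ hcT)
          rw [← orderOf_eq_one_iff]
          exact Nat.eq_one_of_dvd_coprimes ((hyo.pow_right k)) (orderOf_dvd_of_pow_eq_one h2)
            (by rw [hk])
        have hmy : y * (m : G) = m * y := by
          calc y * (m : G) = c * y * m := by rw [hc1, one_mul]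
            _ = (m : G) * y := by rw [hc]; group
        have hmT : m ∈ (T : Subgroup N) := hLT ▸ (hmemL m).2 hmy
        obtain ⟨k, hk⟩ := IsPGroup.iff_orderOf.1 T.2 ⟨m, hmT⟩
        rw [Subgroup.orderOf_mk] at hk
        rw [← orderOf_eq_one_iff, hk]
        rcases Nat.eq_zero_or_pos k with rfl | hk0
        · rfl
        · rw [hk] at hmo
          exact absurd (even_iff_two_dvd.2 (dvd_pow_self 2 hk0.ne')) (Nat.not_even_iff_odd.2 hmo)
      obtain ⟨i, c, hc, hac⟩ := Nat.exists_eq_two_pow_mul_odd (orderOf_pos n).ne'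
      have h1 := key (n ^ 2 ^ i) (pow_mem hn _) (by
        rw [orderOf_pow_of_dvd (by positivity) (hac ▸ dvd_mul_right _ _), hac,
          Nat.mul_div_cancel_left _ (by positivity)]
        exact hc)
      have hn2 : IsPGroup 2 (Subgroup.zpowers n) := by
        obtain ⟨j, -, hj⟩ := (Nat.dvd_prime_pow Nat.prime_two).1 (orderOf_dvd_of_pow_eq_one h1)
        exact IsPGroup.of_card (n := j) (by rw [Nat.card_zpowers, hj])
      exact (hn2.inf_normalizer_sylow T).le ⟨Subgroup.mem_zpowers n, hn⟩ |>.2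
    have hT1 : (T : Subgroup N) ≠ ⊥ := fun e => by
      have h1 : (⟨t, ht⟩ : N) ∈ (⊥ : Subgroup N) := e ▸ htT
      exact ht1 (congrArg Subtype.val (Subgroup.mem_bot.1 h1))
    have hTtop : (T : Subgroup N) ≠ ⊤ := fun e => hNs
      (isSolvable_top (isSolvable_of_card_two_pow (e ▸ T.2)))
    have hF : Cfsg.IsFrobeniusComplement (T : Subgroup N) := by
      refine ⟨hT1, hTtop, fun g hg => ?_⟩
      rw [Subgroup.eq_bot_iff_forall]
      rintro s ⟨hsT, hsg⟩
      by_contra hs1
      apply hg
      apply hNT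
      -- the conjugate of the centre meets `T`
      change s ∈ MulAut.conj g • (T : Subgroup N) at hsg
      rw [Subgroup.mem_pointwise_smul_iff_inv_smul_mem, ← map_inv, MulAut.smul_def, MulAut.conj_apply,
        inv_inv] at hsg
      change s ∈ (T : Subgroup N) at hsT
      have hz : (⟨z, hzN⟩ : N) * (g⁻¹ * s * g) = g⁻¹ * s * g * ⟨z, hzN⟩ := (Subtype.ext (hTz _ hsg)).symm
      have hgz : g * ⟨z, hzN⟩ * g⁻¹ ∈ (T : Subgroup N) := hcentT s hsT hs1 _ (by
        calc g * ⟨z, hzN⟩ * g⁻¹ * s = g * (⟨z, hzN⟩ * (g⁻¹ * s * g)) * g⁻¹ := by group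
          _ = _ := by rw [hz]; group)
      have hne : g * ⟨z, hzN⟩ * g⁻¹ ≠ (1 : N) := fun e => hz1' (congrArg Subtype.val (conj_eq_one_iff.1 e))
      refine Subgroup.mem_normalizer_fintype (S := ((T : Subgroup N) : Set N)) fun w hw => ?_
      refine hcentT _ hgz hne _ ?_
      calc g * w * g⁻¹ * (g * ⟨z, hzN⟩ * g⁻¹) = g * (w * ⟨z, hzN⟩) * g⁻¹ := by group
        _ = g * (⟨z, hzN⟩ * w) * g⁻¹ := by rw [(Subtype.ext (hTz w hw) : w * ⟨z, hzN⟩ = ⟨z, hzN⟩ * w)]
        _ = _ := by group
    obtain ⟨K, hKn, hK⟩ := Frobenius.exists_kernel hF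
    have hcard := Frobenius.kernel_card hF hK
    rcases hKn.eq_bot_or_eq_top with e | e
    · rw [e, Subgroup.card_bot, eq_comm, Subgroup.index_eq_one] at hcard
      exact hTtop hcard
    · have : (⟨t, ht⟩ : N) ∈ Cfsg.frobeniusKernel (T : Subgroup N) := by
        rw [← hK, e]; exact Subgroup.mem_top _
      rcases this with e' | e'
      · exact ht1 (congrArg Subtype.val e')
      · exact e' 1 (by rw [map_one, one_smul]; exact htT)
  -- the general involution
  intro u hu
  rw [IsPGroup.iff_orderOf]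
  rintro ⟨x, hx⟩
  rw [Subgroup.orderOf_mk]
  by_contra hnot
  obtain ⟨i, c, hc, hxc⟩ := Nat.exists_eq_two_pow_mul_odd (orderOf_pos x).ne'
  have hc1 : c ≠ 1 := fun e => hnot ⟨i, by rw [hxc, e, mul_one]⟩
  obtain ⟨p, hp, hpc⟩ := Nat.exists_prime_and_dvd hc1
  have hpd : p ∣ orderOf x := hxc ▸ hpc.mul_left _
  set y := x ^ (orderOf x / p) with hy
  have hyo : orderOf y = p := by
    rw [hy, orderOf_pow_of_dvd (Nat.div_pos (Nat.le_of_dvd (orderOf_pos x) hpd) hp.pos).ne'
      (Nat.div_dvd_of_dvd hpd), Nat.div_div_self hpd (orderOf_pos x).ne']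
  have hyu : y * u = u * y :=
    ((show Commute x u from Subgroup.mem_centralizer_singleton_iff.1 hx).pow_left _).eq
  have hu1 : u ≠ 1 := fun e => by rw [e, orderOf_one] at hu; omega
  have hp2 : p ≠ 2 := fun e => by subst e; exact Nat.not_even_iff_odd.2 hc (even_iff_two_dvd.2 hpc)
  -- an involution of `N` commuting with `u`
  obtain ⟨P, hP⟩ := (orderOf_two_isPGroup hu).exists_le_sylow
  obtain ⟨a, haN, hao, hau⟩ : ∃ a ∈ N, orderOf a = 2 ∧ a * u = u * a := by
    have hN2' : 2 ∣ Nat.card N := two_dvd_card hNs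
    have hdis : N.subgroupOf (P : Subgroup G) ≠ ⊥ := by
      intro e
      have h1 := (Subgroup.subgroupOf_eq_bot.1 e).eq_bot
      obtain ⟨Q⟩ : Nonempty (Sylow 2 N) := inferInstance
      obtain ⟨R, hR⟩ := (Q.2.map N.subtype).exists_le_sylow
      obtain ⟨g, hg⟩ := MulAction.exists_smul_eq G R P
      obtain ⟨⟨q, hq⟩, hq1⟩ := exists_prime_orderOf_dvd_card' (G := Q) 2 (Q.dvd_card_of_dvd_card hN2')
      rw [Subgroup.orderOf_mk, ← Subgroup.orderOf_coe] at hq1
      have hqR : (q : G) ∈ (R : Subgroup G) := hR ⟨q, hq, rfl⟩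
      have hmem : g * (q : G) * g⁻¹ ∈ N ⊓ (P : Subgroup G) := by
        refine ⟨hNn.conj_mem _ q.2 g, ?_⟩
        rw [← hg, Sylow.smul_def, Sylow.pointwise_smul_def]
        exact ⟨(q : G), hqR, rfl⟩
      rw [h1, Subgroup.mem_bot, conj_eq_one_iff] at hmem
      rw [hmem, orderOf_one] at hq1
      omega
    obtain ⟨⟨w, ⟨hwN, hwc⟩⟩, hw1⟩ := Subgroup.ne_bot_iff_exists_ne_one.1
      (PGroup.inf_center_ne_bot P.2 (N.subgroupOf (P : Subgroup G)) hdis)
    have hw1' : (w : G) ≠ 1 := fun e => hw1 (Subtype.ext (Subtype.ext e))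
    obtain ⟨k, hk⟩ := orderOf_pow_of_isPGroup_zpowers (zpowers_isPGroup_of_mem P.2 w.2)
    obtain ⟨j, hj⟩ := exists_pow_involution hk hw1'
    refine ⟨(w : G) ^ j, pow_mem hwN j, hj, ?_⟩
    exact ((show Commute (w : G) u from
      (congrArg Subtype.val (Subgroup.mem_center_iff.1 hwc ⟨u, hP (Subgroup.mem_zpowers u)⟩)).symm).pow_left j).eq
  refine hinN a haN hao y (hyo ▸ hp) (hyo ▸ hp2) ?_
  exact commute_of_coprime_pGroup (hCN u hu1) (mem_centralizer_one hyu.symm) (mem_centralizer_one hau.symm)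
    (by rw [hyo]; exact (Nat.coprime_primes hp Nat.prime_two).2 hp2) (orderOf_two_isPGroup hao)

end CfsgLib.CNModules
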